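import Groth.Prelude.Def_DeltaF
import Mathlib

/-! Comparison of delta functors with values in abelian groups, element-wise. -/

set_option autoImplicit false
set_option linter.style.haveILetI false

universe v u w

open CategoryTheory CategoryTheory.Limits

noncomputable section

namespace Groth.Agent.DeltaEff

variable {C : Type u} [Category.{v} C] [Abelian C] {T T' : DeltaF.CohDeltaFunctor C AddCommGrpCat.{w} ℕ}

/-- the sequence of a monomorphism -/
abbrev cokSeq {A M : C} (i : A ⟶ M) : ShortComplex C := ShortComplex.mk i (cokernel.π i) (cokernel.condition i)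

theorem cokSeq_shortExact {A M : C} (i : A ⟶ M) [Mono i] : (cokSeq i).ShortExact where
  exact := ShortComplex.exact_of_g_is_cokernel _ (cokernelIsCokernel i)
  mono_f := inferInstanceAs (Mono i)
  epi_g := inferInstanceAs (Epi (cokernel.π i))

variable (φ : T ⟶ T')

abbrev fn (q : ℕ) (A : C) : (T.F q).obj A → (T'.F q).obj A := fun x => (φ.app q).app A x

theorem nat {A B : C} (q : ℕ) (g : A ⟶ B) (x : (T.F q).obj A) :
    (T'.F q).map g ((φ.app q).app A x) = (φ.app q).app B ((T.F q).map g x) :=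
  (NatTrans.naturality_apply (φ.app q) g x).symm

theorem comm_apply {S : ShortComplex C} (hS : S.ShortExact) (q : ℕ) (x : (T.F q).obj S.X₃) :
    (φ.app (q + 1)).app S.X₁ (T.δ S hS q (q + 1) rfl x) = T'.δ S hS q (q + 1) rfl ((φ.app q).app S.X₃ x) := by
  rw [← ConcreteCategory.comp_apply, φ.comm, ConcreteCategory.comp_apply]

theorem ex₁ (U : DeltaF.CohDeltaFunctor C AddCommGrpCat.{w} ℕ) {S : ShortComplex C} (hS : S.ShortExact) (q : ℕ)
    (x : (U.F (q + 1)).obj S.X₁) (hx : (U.F (q + 1)).map S.f x = 0) : ∃ y, U.δ S hS q (q + 1) rfl y = x :=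
  (ShortComplex.ab_exact_iff _).1 (U.exact₁ S hS q (q + 1) rfl) x hx

theorem ex₂ (U : DeltaF.CohDeltaFunctor C AddCommGrpCat.{w} ℕ) {S : ShortComplex C} (hS : S.ShortExact) (q : ℕ)
    (x : (U.F q).obj S.X₂) (hx : (U.F q).map S.g x = 0) : ∃ y, (U.F q).map S.f y = x :=
  (ShortComplex.ab_exact_iff _).1 (U.exact₂ S hS q) x hx

theorem ex₃ (U : DeltaF.CohDeltaFunctor C AddCommGrpCat.{w} ℕ) {S : ShortComplex C} (hS : S.ShortExact) (q : ℕ)
    (x : (U.F q).obj S.X₃) (hx : U.δ S hS q (q + 1) rfl x = 0) : ∃ y, (U.F q).map S.g y = x :=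
  (ShortComplex.ab_exact_iff _).1 (U.exact₃ S hS q (q + 1) rfl) x hx

theorem δ_map (U : DeltaF.CohDeltaFunctor C AddCommGrpCat.{w} ℕ) {S : ShortComplex C} (hS : S.ShortExact) (q : ℕ)
    (x : (U.F q).obj S.X₂) : U.δ S hS q (q + 1) rfl ((U.F q).map S.g x) = 0 := by
  rw [← ConcreteCategory.comp_apply, U.comp_δ]; rfl

theorem map_δ (U : DeltaF.CohDeltaFunctor C AddCommGrpCat.{w} ℕ) {S : ShortComplex C} (hS : S.ShortExact) (q : ℕ)
    (x : (U.F q).obj S.X₃) : (U.F (q + 1)).map S.f (U.δ S hS q (q + 1) rfl x) = 0 := by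
  rw [← ConcreteCategory.comp_apply, U.δ_comp]; rfl

theorem map_fg (U : DeltaF.CohDeltaFunctor C AddCommGrpCat.{w} ℕ) (S : ShortComplex C) (q : ℕ)
    (x : (U.F q).obj S.X₁) : (U.F q).map S.g ((U.F q).map S.f x) = 0 := by
  rw [← ConcreteCategory.comp_apply, ← Functor.map_comp, S.zero, Functor.map_zero]; rfl

theorem inj_map_zero (U : DeltaF.CohDeltaFunctor C AddCommGrpCat.{w} ℕ) (hU : U.ZeroMono) {S : ShortComplex C}
    (hS : S.ShortExact) : Function.Injective ((U.F 0).map S.f) :=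
  haveI := hU S hS
  (AddCommGrpCat.mono_iff_injective _).1 inferInstance

/-- injectivity in degree `0` on subobjects -/
theorem inj_zero (hT0 : T.ZeroMono) {A M : C} (i : A ⟶ M) [Mono i]
    (hM : Function.Injective (fn φ 0 M)) : Function.Injective (fn φ 0 A) := fun a b hab =>
  inj_map_zero T hT0 (cokSeq_shortExact i) (hM (by
    show (φ.app 0).app M ((T.F 0).map i a) = (φ.app 0).app M ((T.F 0).map i b)
    rw [← nat, ← nat]
    exact congrArg ((T'.F 0).map i) hab))

/-- surjectivity on subobjects -/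
theorem surj_sub {A M : C} (i : A ⟶ M) [Mono i] (q : ℕ) (y : (T'.F q).obj A)
    (hM : Function.Surjective (fn φ q M)) (hC : Function.Injective (fn φ q (cokernel i))) :
    ∃ a, (T'.F q).map i (fn φ q A a) = (T'.F q).map i y := by
  obtain ⟨x, hx⟩ := hM ((T'.F q).map i y)
  have hgx : (T.F q).map (cokernel.π i) x = 0 := hC (by
    show (φ.app q).app _ ((T.F q).map (cokernel.π i) x) = (φ.app q).app _ 0
    rw [← nat, map_zero, show (φ.app q).app M x = (T'.F q).map i y from hx]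
    exact map_fg T' (cokSeq i) q y)
  obtain ⟨a, ha⟩ := ex₂ T (cokSeq_shortExact i) q x hgx
  exact ⟨a, (nat φ q i a).trans ((congrArg _ ha).trans hx)⟩

/-- surjectivity one degree up, for a subobject -/
theorem surj_of_map_eq {A M : C} (i : A ⟶ M) [Mono i] (q : ℕ) (y : (T'.F (q + 1)).obj A)
    (hC : Function.Surjective (fn φ q (cokernel i))) (a : (T.F (q + 1)).obj A)
    (ha : (T'.F (q + 1)).map i (fn φ (q + 1) A a) = (T'.F (q + 1)).map i y) :
    ∃ b, fn φ (q + 1) A b = y := by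
  obtain ⟨c, hc⟩ := ex₁ T' (cokSeq_shortExact i) q (y - fn φ (q + 1) A a)
    (by rw [map_sub, sub_eq_zero]; exact ha.symm)
  obtain ⟨c, rfl⟩ := hC c
  refine ⟨a + T.δ _ (cokSeq_shortExact i) q (q + 1) rfl c, ?_⟩
  show (φ.app (q + 1)).app A _ = y
  rw [map_add]
  erw [comm_apply φ (cokSeq_shortExact i) q c, hc]
  exact add_sub_cancel (fn φ (q + 1) A a) y

/-- a class killed by a monomorphism -/
theorem eq_zero_of_killed {A M : C} (i : A ⟶ M) [Mono i] (q : ℕ) (hM : Function.Surjective (fn φ q M))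
    (hC : Function.Injective (fn φ q (cokernel i))) (α : (T.F (q + 1)).obj A)
    (hα : (T.F (q + 1)).map i α = 0) (h : fn φ (q + 1) A α = 0) : α = 0 := by
  obtain ⟨β, rfl⟩ := ex₁ T (cokSeq_shortExact i) q α hα
  obtain ⟨m', hm'⟩ := ex₃ T' (cokSeq_shortExact i) q ((φ.app q).app _ β)
    ((comm_apply φ (cokSeq_shortExact i) q β).symm.trans h)
  obtain ⟨m, rfl⟩ := hM m'
  have hβ : (T.F q).map (cokernel.π i) m = β := hC ((nat φ q (cokernel.π i) m).symm.trans hm')
  rw [← hβ]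
  exact δ_map T (cokSeq_shortExact i) q m

theorem fn_zero (q : ℕ) (A : C) : fn φ q A 0 = 0 := map_zero ((φ.app q).app A).hom

theorem inj_iff (q : ℕ) (A : C) : Function.Injective (fn φ q A) ↔ ∀ x, fn φ q A x = 0 → x = 0 :=
  injective_iff_map_eq_zero ((φ.app q).app A).hom

theorem isIso_iff (q : ℕ) (A : C) : IsIso ((φ.app q).app A) ↔ Function.Bijective (fn φ q A) :=
  ConcreteCategory.isIso_iff_bijective _

theorem epi_iff (q : ℕ) (A : C) : Epi ((φ.app q).app A) ↔ Function.Surjective (fn φ q A) :=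
  AddCommGrpCat.epi_iff_surjective _

/-- effaceable source: the criterion through a class of objects -/
theorem bijective_of_class (hT0 : T.ZeroMono)
    (hT : ∀ (q : ℕ) (A : C) (α : (T.F (q + 1)).obj A), ∃ (M : C) (u : A ⟶ M), Mono u ∧ (T.F (q + 1)).map u α = 0)
    (hT'0 : T'.ZeroMono) (E : ObjectProperty C) (hE : ∀ A : C, ∃ (M : C) (i : A ⟶ M), Mono i ∧ E M)
    (h0 : ∀ M, E M → Function.Bijective (fn φ 0 M))
    (hs : ∀ q M, E M → Function.Surjective (fn φ (q + 1) M)) :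
    ∀ (q : ℕ) (A : C), Function.Bijective (fn φ q A) := by
  intro q
  induction q with
  | zero =>
    have hinj : ∀ A, Function.Injective (fn φ 0 A) := fun A => by
      obtain ⟨M, i, hi, hM⟩ := hE A
      exact inj_zero φ hT0 i (h0 M hM).1
    refine fun A => ⟨hinj A, fun y => ?_⟩
    obtain ⟨M, i, hi, hM⟩ := hE A
    obtain ⟨a, ha⟩ := surj_sub φ i 0 y (h0 M hM).2 (hinj _)
    exact ⟨a, inj_map_zero T' hT'0 (cokSeq_shortExact i) ha⟩
  | succ q ih =>
    have hinj : ∀ A, Function.Injective (fn φ (q + 1) A) := fun A => (inj_iff φ _ _).2 fun α h => by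
      obtain ⟨M, u, hu, hα⟩ := hT q A α
      exact eq_zero_of_killed φ u q (ih M).2 (ih _).1 α hα h
    refine fun A => ⟨hinj A, fun y => ?_⟩
    obtain ⟨M, i, hi, hM⟩ := hE A
    obtain ⟨a, ha⟩ := surj_sub φ i (q + 1) y (hs q M hM) (hinj _)
    exact surj_of_map_eq φ i q y (ih _).2 a ha

/-- effaceable source and target -/
theorem bijective_of_effaceable
    (hT : ∀ (q : ℕ) (A : C) (α : (T.F (q + 1)).obj A), ∃ (M : C) (u : A ⟶ M), Mono u ∧ (T.F (q + 1)).map u α = 0)
    (hT' : ∀ (q : ℕ) (A : C) (α : (T'.F (q + 1)).obj A), ∃ (M : C) (u : A ⟶ M), Mono u ∧ (T'.F (q + 1)).map u α = 0)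
    (h0 : ∀ A, Function.Bijective (fn φ 0 A)) : ∀ (q : ℕ) (A : C), Function.Bijective (fn φ q A) := by
  intro q
  induction q with
  | zero => exact h0
  | succ q ih =>
    refine fun A => ⟨(inj_iff φ _ _).2 fun α h => ?_, fun y => ?_⟩
    · obtain ⟨M, u, hu, hα⟩ := hT q A α
      exact eq_zero_of_killed φ u q (ih M).2 (ih _).1 α hα h
    · obtain ⟨M, u, hu, hy⟩ := hT' q A y
      exact surj_of_map_eq φ u q y (ih _).2 0 (by rw [fn_zero, map_zero, hy])

theorem effaceable_of_bijective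
    (hT : ∀ (q : ℕ) (A : C) (α : (T.F (q + 1)).obj A), ∃ (M : C) (u : A ⟶ M), Mono u ∧ (T.F (q + 1)).map u α = 0)
    (h : ∀ (q : ℕ) (A : C), Function.Bijective (fn φ q A)) (q : ℕ) (A : C) (y : (T'.F (q + 1)).obj A) :
    ∃ (M : C) (u : A ⟶ M), Mono u ∧ (T'.F (q + 1)).map u y = 0 := by
  obtain ⟨α, rfl⟩ := (h (q + 1) A).2 y
  obtain ⟨M, u, hu, hα⟩ := hT q A α
  exact ⟨M, u, hu, by rw [nat, hα, map_zero]⟩

section Colimit

variable {J : Type v} [SmallCategory J] [IsFiltered J]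

theorem colim_eq {K : J ⥤ AddCommGrpCat.{w}} {c : Cocone K} (hc : IsColimit c) {i j : J}
    (x : K.obj i) (y : K.obj j) (h : c.ι.app i x = c.ι.app j y) :
    ∃ (k : J) (f : i ⟶ k) (g : j ⟶ k), K.map f x = K.map g y := by
  haveI : IsFiltered (AsSmall.{max v w} J) := IsFiltered.of_equivalence AsSmall.equiv
  haveI : PreservesColimitsOfShape J (forget AddCommGrpCat.{max v w}) :=
    preservesColimitsOfShape_of_equiv (AsSmall.equiv (C := J)).symm _
  obtain ⟨k, f, g, e⟩ := Concrete.isColimit_exists_of_rep_eq (K ⋙ AddCommGrpCat.uliftFunctor.{v, w})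
    (isColimitOfPreserves AddCommGrpCat.uliftFunctor.{v, w} hc) (ULift.up x) (ULift.up y) (congrArg ULift.up h)
  exact ⟨k, f, g, congrArg ULift.down e⟩

theorem colim_rep {K : J ⥤ AddCommGrpCat.{w}} {c : Cocone K} (hc : IsColimit c) (x : c.pt) :
    ∃ (j : J) (y : K.obj j), c.ι.app j y = x := by
  haveI : IsFiltered (AsSmall.{max v w} J) := IsFiltered.of_equivalence AsSmall.equiv
  haveI : PreservesColimitsOfShape J (forget AddCommGrpCat.{max v w}) :=
    preservesColimitsOfShape_of_equiv (AsSmall.equiv (C := J)).symm _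
  obtain ⟨j, y, e⟩ := Concrete.isColimit_exists_rep (K ⋙ AddCommGrpCat.uliftFunctor.{v, w})
    (isColimitOfPreserves AddCommGrpCat.uliftFunctor.{v, w} hc) (ULift.up x)
  exact ⟨j, y.down, congrArg ULift.down e⟩

variable [∀ n, PreservesFilteredColimitsOfSize.{v, v} (T.F n)]
  [∀ n, PreservesFilteredColimitsOfSize.{v, v} (T'.F n)]

theorem inj_colim {K : J ⥤ C} {c : Cocone K} (hc : IsColimit c) (q : ℕ)
    (h : ∀ j, Function.Injective (fn φ q (K.obj j))) : Function.Injective (fn φ q c.pt) := by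
  refine (inj_iff φ _ _).2 fun x hx => ?_
  obtain ⟨j, y, hy⟩ := colim_rep (isColimitOfPreserves (T.F q) hc) x
  replace hy : (T.F q).map (c.ι.app j) y = x := hy
  subst hy
  have h0 : (T'.F q).map (c.ι.app j) (fn φ q _ y) = (T'.F q).map (c.ι.app j) 0 := by
    rw [map_zero]; exact (nat φ q _ y).trans hx
  obtain ⟨k, f, g, e⟩ := colim_eq (isColimitOfPreserves (T'.F q) hc) _ _ h0
  replace e : (T'.F q).map (K.map f) (fn φ q _ y) = (T'.F q).map (K.map g) 0 := e
  rw [map_zero] at e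
  have hy0 : (T.F q).map (K.map f) y = 0 := h k (((nat φ q (K.map f) y).symm.trans e).trans (fn_zero φ q _).symm)
  rw [← c.w f, Functor.map_comp, ConcreteCategory.comp_apply, hy0, map_zero]

theorem surj_colim {K : J ⥤ C} {c : Cocone K} (hc : IsColimit c) (q : ℕ)
    (h : ∀ j, Function.Surjective (fn φ q (K.obj j))) : Function.Surjective (fn φ q c.pt) := fun x => by
  obtain ⟨j, y, hy⟩ := colim_rep (isColimitOfPreserves (T'.F q) hc) x
  replace hy : (T'.F q).map (c.ι.app j) y = x := hy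
  subst hy
  obtain ⟨y₀, rfl⟩ := h j y
  exact ⟨_, (nat φ q _ y₀).symm⟩

theorem bijective_of_colimits (hT0 : T.ZeroMono) (hT'0 : T'.ZeroMono) (D E : ObjectProperty C)
    (hD : ∀ A : C, ∃ (J : Type v) (_ : SmallCategory J) (_ : IsFiltered J) (K : J ⥤ C) (c : Cocone K) (_ : IsColimit c),
      (∀ j, D (K.obj j)) ∧ Nonempty (c.pt ≅ A))
    (hE : ∀ A : C, D A → ∃ (M : C) (i : A ⟶ M), Mono i ∧ E M)
    (h : ∀ q M, E M → Function.Bijective (fn φ q M)) : ∀ (q : ℕ) (A : C), Function.Bijective (fn φ q A) := by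
  have tr : ∀ (q : ℕ) {A B : C} (e : A ≅ B), (Function.Injective (fn φ q A) → Function.Injective (fn φ q B)) ∧
      (Function.Surjective (fn φ q A) → Function.Surjective (fn φ q B)) := fun q A B e => by
    refine ⟨fun hA => (inj_iff φ _ _).2 fun x hx => ?_, fun hA y => ?_⟩
    · have h1 : (T.F q).map e.inv x = 0 := hA (((nat φ q e.inv x).symm.trans
        ((congrArg _ hx).trans (map_zero _))).trans (fn_zero φ q _).symm)
      rw [show x = (T.F q).map e.hom ((T.F q).map e.inv x) by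
        rw [← ConcreteCategory.comp_apply, ← Functor.map_comp, e.inv_hom_id, CategoryTheory.Functor.map_id]; rfl,
        h1, map_zero]
    · obtain ⟨a, ha⟩ := hA ((T'.F q).map e.inv y)
      refine ⟨(T.F q).map e.hom a, ?_⟩
      refine (nat φ q e.hom a).symm.trans ((congrArg _ ha).trans ?_)
      rw [← ConcreteCategory.comp_apply, ← Functor.map_comp, e.inv_hom_id, CategoryTheory.Functor.map_id]; rfl
  intro q
  induction q with
  | zero =>
    have hinj : ∀ A, Function.Injective (fn φ 0 A) := fun A => by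
      obtain ⟨J, _, _, K, c, hc, hK, ⟨e⟩⟩ := hD A
      refine (tr 0 e).1 (inj_colim φ hc 0 fun j => ?_)
      obtain ⟨M, i, hi, hM⟩ := hE _ (hK j)
      exact inj_zero φ hT0 i (h 0 M hM).1
    refine fun A => ⟨hinj A, ?_⟩
    obtain ⟨J, _, _, K, c, hc, hK, ⟨e⟩⟩ := hD A
    refine (tr 0 e).2 (surj_colim φ hc 0 fun j y => ?_)
    obtain ⟨M, i, hi, hM⟩ := hE _ (hK j)
    obtain ⟨a, ha⟩ := surj_sub φ i 0 y (h 0 M hM).2 (hinj _)
    exact ⟨a, inj_map_zero T' hT'0 (cokSeq_shortExact i) ha⟩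
  | succ q ih =>
    have hinj : ∀ A, Function.Injective (fn φ (q + 1) A) := fun A => by
      obtain ⟨J, _, _, K, c, hc, hK, ⟨e⟩⟩ := hD A
      refine (tr _ e).1 (inj_colim φ hc _ fun j => (inj_iff φ _ _).2 fun α hα => ?_)
      obtain ⟨M, i, hi, hM⟩ := hE _ (hK j)
      refine eq_zero_of_killed φ i q (ih M).2 (ih _).1 α ((h (q + 1) M hM).1 ?_) hα
      refine ((nat φ (q + 1) i α).symm.trans ?_).trans (fn_zero φ _ _).symm
      exact (congrArg _ hα).trans (map_zero _)
    refine fun A => ⟨hinj A, ?_⟩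
    obtain ⟨J, _, _, K, c, hc, hK, ⟨e⟩⟩ := hD A
    refine (tr _ e).2 (surj_colim φ hc _ fun j y => ?_)
    obtain ⟨M, i, hi, hM⟩ := hE _ (hK j)
    obtain ⟨a, ha⟩ := surj_sub φ i (q + 1) y (h (q + 1) M hM).2 (hinj _)
    exact surj_of_map_eq φ i q y (ih _).2 a ha

end Colimit

end Groth.Agent.DeltaEff
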